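import Cfsg.Agent.Lib.Grp.M12.D0

set_option autoImplicit false
set_option maxRecDepth 100000

namespace Cfsg.Agent.CG.M12

noncomputable def tabs : List ℕ := [t0,t1,t2,t3,t4,t5,t6,t7,t8,t9,t10,t11,t12,t13,t14,t15,t16,t17,t18,t19,t20,t21,t22,t23,t24,t25,t26,t27,t28,t29,t30,t31,t32,t33,t34,t35,t36,t37,t38,t39,t40,t41,t42,t43,t44,t45,t46,t47,t48,t49,t50,t51,t52,t53,t54,t55]
noncomputable abbrev app : ℕ → ℕ → ℕ := appT tabs t56 0xff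
noncomputable def slpL : List (Bool × List ℕ) := [(false,[]),
  (false,[]),
  (false,[]),
  (false,[0,2]),
  (true,[3]),
  (false,[0,2,0,2,0,2,0,1]),
  (true,[5]),
  (false,[5,5,5]),
  (false,[3]),
  (true,[8]),
  (false,[4,0,5,2,2,0,2,0,1,0,2,3,7,4,1,0,2,0,1,0,1,1,6,0,3]),
  (false,[8,10,9,9,10,8,10]),
  (true,[11]),
  (false,[10,12,8,8,11,11,10]),
  (true,[13]),
  (false,[13,12,13,11,8,14,10]),
  (true,[15]),
  (false,[9,13,12,13,12,8,10,12,10,16]),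
  (true,[17]),
  (false,[8,13,16,13,9,10,12,15,12,9]),
  (true,[19]),
  (false,[18,20,14,12,14,12,13,13,15,11,8]),
  (true,[21]),
  (false,[17,12,9,10,8,8,10,15,11,15]),
  (true,[23]),
  (false,[22,22,18,12,13,13,9,15,10,15,13,11]),
  (true,[25]),
  (false,[21,11,9,12,15,11,14,10,13]),
  (true,[27]),
  (false,[27,22,23,19,17,12,10,13,10,11,14,15,10,14,9]),
  (true,[29]),
  (false,[27,22,22,17,19,16,11,15,10,9,9,10,15,13,12]),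
  (true,[31]),
  (false,[31,29]),
  (true,[33]),
  (false,[29]),
  (true,[35]),
  (false,[25,28,25,29]),
  (false,[22,25,32,29]),
  (false,[18,20,24,22,27,32,29]),
  (false,[10,11,20,17,22,23,25,28,25,32]),
  (false,[25,30]),
  (true,[41]),
  (false,[19,23,25,25,32]),
  (false,[14,9,17,22,27,27,32,29]),
  (false,[16,20,18,23,28,29]),
  (false,[13,17,23,25,28,25,31]),
  (true,[46]),
  (false,[19,17,24,21,27,27]),
  (true,[48]),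
  (false,[23,21,27,31]),
  (true,[50]),
  (false,[25,32]),
  (false,[8,8]),
  (true,[53]),
  (false,[13,8,21,28,25])]
noncomputable def slp (a : ℕ) : Bool × List ℕ := nth slpL (false, []) a
noncomputable def invL : List ℕ := [0,2,1,4,3,6,5,7,9,8,10,12,11,14,13,16,15,18,17,20,19,22,21,24,23,26,25,28,27,30,29,32,31,34,33,36,35,37,38,39,40,42,41,43,44,45,47,46,49,48,51,50,52,54,53,55]
noncomputable def inv (a : ℕ) : ℕ := nth invL 56 a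
noncomputable def bs : List ℕ := [0,48,32,80,16]
noncomputable def mc0 : Lvl := ⟨0, [8,9,10,11,12,13,14,15,16], 12,
  fun i => look 0xff mc0c (Nat.mul 8 i), fun i => look 0xf mc0p (Nat.mul 4 i),
  fun i => look 255 mc0l (Nat.mul 8 i), fun i => look 255 mc0i (Nat.mul 8 i), fun x => look 0xff mc0q x, 2⟩
noncomputable def mc1 : Lvl := ⟨48, [17,18,19,20], 11,
  fun i => look 0xff mc1c (Nat.mul 8 i), fun i => look 0xf mc1p (Nat.mul 4 i),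
  fun i => look 255 mc1l (Nat.mul 8 i), fun i => look 255 mc1i (Nat.mul 8 i), fun x => look 0xff mc1q x, 2⟩
noncomputable def mc2 : Lvl := ⟨32, [21,22,23,24], 10,
  fun i => look 0xff mc2c (Nat.mul 8 i), fun i => look 0xf mc2p (Nat.mul 4 i),
  fun i => look 255 mc2l (Nat.mul 8 i), fun i => look 255 mc2i (Nat.mul 8 i), fun x => look 0xff mc2q x, 2⟩
noncomputable def mc3 : Lvl := ⟨80, [25,26,27,28], 9,
  fun i => look 0xff mc3c (Nat.mul 8 i), fun i => look 0xf mc3p (Nat.mul 4 i),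
  fun i => look 255 mc3l (Nat.mul 8 i), fun i => look 255 mc3i (Nat.mul 8 i), fun x => look 0xff mc3q x, 3⟩
noncomputable def mc4 : Lvl := ⟨16, [29,30,31,32], 8,
  fun i => look 0xff mc4c (Nat.mul 8 i), fun i => look 0xf mc4p (Nat.mul 4 i),
  fun i => look 255 mc4l (Nat.mul 8 i), fun i => look 255 mc4i (Nat.mul 8 i), fun x => look 0xff mc4q x, 2⟩
noncomputable def mc : List Lvl := [mc0, mc1, mc2, mc3, mc4]
noncomputable def tcR : List (List ℕ) := [[33,34],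
  [34,33],
  [35,36],
  [36,35],
  [34,35,33,35],
  [33,33,33,33],
  [36,33,35,33],
  [37,37],
  [37,36,37,33,37,34,36],
  [38,38],
  [38,37,38,37],
  [38,35,38,35,38,35],
  [38,34,38,33,38,35,37,36],
  [39,39],
  [39,38,39,38],
  [39,36,39,35,39,34,34],
  [39,34,37,38,33,39,34,37,38,33],
  [39,34,34,38,36,39,34,34,38,36],
  [39,34,36,39,34,39,33,37,38,35],
  [40,40],
  [40,35,40,35],
  [40,37,40,37],
  [40,38,40,38],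
  [40,33,40,34,36],
  [40,39,36,40,39,40,35,39,36]]
noncomputable def tc0T : List ℕ := [0,0,0,0,0,0,0,0,0,0,0,0,0,0,0,0,0,0,0,0,0,0,0,0,0,0,0,0,0,0,0,0,0,tc0t33,tc0t34,tc0t35,tc0t36,tc0t37,tc0t38,tc0t39,tc0t40]
noncomputable def tc0r : Tr Rule := (.node (.node (.node (.node (.node (.node (.leaf ⟨40,[40],19,1⟩) (.leaf ⟨38,[37,38,37],10,0⟩)) (.leaf ⟨35,[40,35,40],20,3⟩)) (.node (.leaf ⟨34,[35,33,35],4,0⟩) (.leaf ⟨33,[40,34,36,40],23,1⟩))) (.node (.node (.node (.leaf ⟨36,[35],2,1⟩) (.leaf ⟨40,[39,36,40,39,40,35,39,36],24,0⟩)) (.leaf ⟨38,[39,38,39],14,3⟩)) (.node (.leaf ⟨35,[34,35,33],4,3⟩) (.leaf ⟨37,[38,35,39,34,36,39,34,39,33],18,7⟩)))) (.node (.node (.node (.node (.leaf ⟨34,[33],0,1⟩) (.leaf ⟨40,[35,39,36,40,39,36,40,39],24,5⟩)) (.leaf ⟨37,[40,37,40],21,3⟩)) (.node (.leaf ⟨33,[36,33,35],6,3⟩) (.leaf ⟨39,[34,39,33,37,38,35,39,34,36],18,3⟩)))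 (.node (.node (.node (.leaf ⟨37,[37],7,1⟩) (.leaf ⟨40,[35,40,35],20,2⟩)) (.leaf ⟨38,[35,38,35,38,35],11,2⟩)) (.node (.leaf ⟨35,[33,35,34],4,1⟩) (.leaf ⟨37,[33,37,34,36,37,36],8,2⟩))))) (.node (.node (.node (.node (.node (.leaf ⟨39,[39],13,1⟩) (.leaf ⟨35,[38,35,38,35,38],11,3⟩)) (.leaf ⟨39,[36,39,35,39,34,34],15,0⟩)) (.node (.leaf ⟨33,[33,33,33],5,2⟩) (.leaf ⟨38,[33,39,34,37,38,33,39,34,37],16,8⟩))) (.node (.node (.node (.leaf ⟨35,[36],2,0⟩) (.leaf ⟨40,[37,40,37],21,2⟩)) (.leaf ⟨38,[36,39,34,34,38,36,39,34,34],17,8⟩)) (.node (.leaf ⟨33,[35,34,35],4,2⟩) (.leaf ⟨33,[38,35,37,36,38,34,38],12,3⟩)))) (.node (.node (.node (.node (.leaf ⟨33,[34],0,0⟩) (.leaf ⟨40,[39,40,35,39,36,40,39,36],24,3⟩)) (.leaf ⟨38,[40,38,40],22,3⟩)) (.node (.leaf ⟨33,[35,33,36],6,1⟩) (.leaf ⟨39,[38,39,38],14,2⟩))) (.node (.node (.node (.leaf ⟨38,[38],9,1⟩) (.leaf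 ⟨40,[38,40,38],22,2⟩)) (.leaf ⟨34,[36,40,33,40],23,3⟩)) (.node (.leaf ⟨36,[33,35,33],6,0⟩) (.leaf ⟨37,[38,37,38],10,3⟩))))))
noncomputable def tc0 : TCL := ⟨[33,34,35,36,37,38,39,40], [33,34,35,36,37,38,39], 12, 20, 0xff, 8, 0x3f,
  fun a x => look 0xfffff (nth tc0T 0 a) x, fun x => look 0xfffff tc0d x, tc0r⟩
noncomputable def tc1T : List ℕ := [0,0,0,0,0,0,0,0,0,0,0,0,0,0,0,0,0,0,0,0,0,0,0,0,0,0,0,0,0,0,0,0,0,tc1t33,tc1t34,tc1t35,tc1t36,tc1t37,tc1t38,tc1t39]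
noncomputable def tc1r : Tr Rule := (.node (.node (.node (.node (.node (.leaf ⟨39,[39],13,1⟩) (.leaf ⟨39,[34,34,39,36,39,35],15,4⟩)) (.node (.leaf ⟨33,[33,33,33],5,2⟩) (.leaf ⟨39,[38,39,38],14,2⟩))) (.node (.node (.leaf ⟨35,[36],2,0⟩) (.leaf ⟨38,[36,39,34,34,38,36,39,34,34],17,8⟩)) (.node (.leaf ⟨33,[35,34,35],4,2⟩) (.leaf ⟨37,[38,37,38],10,3⟩)))) (.node (.node (.node (.leaf ⟨33,[34],0,0⟩) (.leaf ⟨39,[36,39,35,39,34,34],15,0⟩)) (.node (.leaf ⟨33,[35,33,36],6,1⟩) (.leaf ⟨33,[38,35,37,36,38,34,38],12,3⟩))) (.node (.node (.leaf ⟨38,[38],9,1⟩) (.leaf ⟨38,[35,38,35,38,35],11,2⟩)) (.node (.leaf ⟨36,[33,35,33],6,0⟩) (.leaf ⟨35,[38,35,38,35,38],11,3⟩))))) (.node (.node (.node (.node (.leaf ⟨34,[33],0,1⟩) (.leaf ⟨39,[35,39,34,34,39,36],15,2⟩)) (.node (.leaf ⟨33,[36,33,35],6,3⟩) (.leaf ⟨37,[38,35,39,34,36,39,34,39,33],18,7⟩))) (.node (.node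 (.leaf ⟨37,[37],7,1⟩) (.leaf ⟨38,[36,39,34,34,38,36,39,34,34],17,3⟩)) (.node (.leaf ⟨35,[33,35,34],4,1⟩) (.leaf ⟨38,[37,38,37],10,0⟩)))) (.node (.node (.node (.leaf ⟨36,[35],2,1⟩) (.leaf ⟨38,[33,39,34,37,38,33,39,34,37],16,8⟩)) (.node (.leaf ⟨35,[34,35,33],4,3⟩) (.leaf ⟨37,[33,37,34,36,37,36],8,2⟩))) (.node (.node (.leaf ⟨34,[35,33,35],4,0⟩) (.leaf ⟨39,[34,39,33,37,38,35,39,34,36],18,3⟩)) (.leaf ⟨38,[39,38,39],14,3⟩)))))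
noncomputable def tc1 : TCL := ⟨[33,34,35,36,37,38,39], [33,34,35,36,37,38], 11, 20, 0xff, 8, 0x3f,
  fun a x => look 0xfffff (nth tc1T 0 a) x, fun x => look 0xfffff tc1d x, tc1r⟩
noncomputable def tc2T : List ℕ := [0,0,0,0,0,0,0,0,0,0,0,0,0,0,0,0,0,0,0,0,0,0,0,0,0,0,0,0,0,0,0,0,0,tc2t33,tc2t34,tc2t35,tc2t36,tc2t37,tc2t38]
noncomputable def tc2r : Tr Rule := (.node (.node (.node (.node (.node (.leaf ⟨38,[38],9,1⟩) (.leaf ⟨38,[33,38,35,37,36,38,34],12,2⟩)) (.leaf ⟨33,[36,33,35],6,3⟩)) (.node (.node (.leaf ⟨35,[36],2,0⟩) (.leaf ⟨34,[36,37,36,37,33,37],8,5⟩)) (.leaf ⟨35,[33,35,34],4,1⟩))) (.node (.node (.node (.leaf ⟨33,[34],0,0⟩) (.leaf ⟨37,[36,38,34,38,33,38,35],12,6⟩)) (.leaf ⟨35,[34,35,33],4,3⟩)) (.node (.leaf ⟨34,[35,33,35],4,0⟩) (.leaf ⟨37,[38,37,38],10,3⟩)))) (.node (.node (.node (.node (.leaf ⟨34,[33],0,1⟩) (.leaf ⟨38,[35,38,35,38,35],11,2⟩))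 (.leaf ⟨33,[35,33,36],6,1⟩)) (.node (.node (.leaf ⟨37,[37],7,1⟩) (.leaf ⟨38,[34,38,33,38,35,37,36],12,0⟩)) (.leaf ⟨36,[33,35,33],6,0⟩))) (.node (.node (.node (.leaf ⟨36,[35],2,1⟩) (.leaf ⟨36,[37,33,37,34,36,37],8,1⟩)) (.leaf ⟨33,[35,34,35],4,2⟩)) (.node (.leaf ⟨33,[33,33,33],5,2⟩) (.leaf ⟨38,[35,38,35,38,35],11,4⟩)))))
noncomputable def tc2 : TCL := ⟨[33,34,35,36,37,38], [33,34,35,36,37], 10, 20, 0xff, 8, 0x1f,
  fun a x => look 0xfffff (nth tc2T 0 a) x, fun x => look 0xfffff tc2d x, tc2r⟩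
noncomputable def tc3T : List ℕ := [0,0,0,0,0,0,0,0,0,0,0,0,0,0,0,0,0,0,0,0,0,0,0,0,0,0,0,0,0,0,0,0,0,tc3t33,tc3t34,tc3t35,tc3t36,tc3t37]
noncomputable def tc3r : Tr Rule := (.node (.node (.node (.node (.leaf ⟨37,[37],7,1⟩) (.leaf ⟨33,[35,33,36],6,1⟩)) (.node (.leaf ⟨35,[36],2,0⟩) (.leaf ⟨36,[33,35,33],6,0⟩))) (.node (.node (.leaf ⟨33,[34],0,0⟩) (.leaf ⟨33,[35,34,35],4,2⟩)) (.node (.leaf ⟨33,[33,33,33],5,2⟩) (.leaf ⟨37,[33,37,34,36,37,36],8,2⟩)))) (.node (.node (.node (.leaf ⟨34,[33],0,1⟩) (.leaf ⟨35,[34,35,33],4,3⟩)) (.node (.leaf ⟨34,[35,33,35],4,0⟩) (.leaf ⟨37,[34,36,37,36,37,33],8,4⟩))) (.node (.node (.leaf ⟨36,[35],2,1⟩) (.leaf ⟨35,[33,35,34],4,1⟩)) (.node (.leaf ⟨33,[36,33,35],6,3⟩) (.leaf ⟨37,[36,37,33,37,34,36],8,0⟩)))))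
noncomputable def tc3 : TCL := ⟨[33,34,35,36,37], [33,34,35,36], 9, 20, 0xff, 8, 0x1f,
  fun a x => look 0xfffff (nth tc3T 0 a) x, fun x => look 0xfffff tc3d x, tc3r⟩
noncomputable def tc4T : List ℕ := [0,0,0,0,0,0,0,0,0,0,0,0,0,0,0,0,0,0,0,0,0,0,0,0,0,0,0,0,0,0,0,0,0,tc4t33,tc4t34,tc4t35,tc4t36]
noncomputable def tc4r : Tr Rule := (.node (.node (.node (.node (.leaf ⟨34,[33],0,1⟩) (.leaf ⟨33,[36,33,35],6,3⟩)) (.leaf ⟨33,[35,34,35],4,2⟩)) (.node (.node (.leaf ⟨36,[35],2,1⟩) (.leaf ⟨36,[33,35,33],6,0⟩)) (.leaf ⟨33,[33,33,33],5,2⟩))) (.node (.node (.node (.leaf ⟨33,[34],0,0⟩) (.leaf ⟨33,[35,33,36],6,1⟩)) (.leaf ⟨34,[35,33,35],4,0⟩)) (.node (.leaf ⟨35,[36],2,0⟩) (.leaf ⟨35,[33,36,33],6,2⟩))))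
noncomputable def tc4 : TCL := ⟨[33,34,35,36], [], 8, 16, 0xff, 8, 0xf,
  fun a x => look 0xffff (nth tc4T 0 a) x, fun x => look 0xffff tc4d x, tc4r⟩
noncomputable def tc : List TCL := [tc0, tc1, tc2, tc3, tc4]
noncomputable def inW : List (List ℕ) := [[33,33,39,40,35,33,39,36,38,34,37,35],
  [36,39,40,35,39,36,33,38,37,36],
  [39,40,35,39,36,38,37,35]]
noncomputable def tcS : List ℕ := [33,34,35,36,37,38,39,40]

end Cfsg.Agent.CG.M12
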