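import Cfsg.Agent.Lib.Grp.M12.ODefs

set_option autoImplicit false
set_option maxRecDepth 100000

namespace Cfsg.Agent.CG.M12

theorem Oc103 : cc0.chk (appT tabs t56 0xff) 1 3 = true := by decide +kernel
theorem Oc104 : cc1.chk (appT tabs t56 0xff) 1 7 = true := by decide +kernel
theorem Oc105 : cc2.chk (appT tabs t56 0xff) 1 2 = true := by decide +kernel
theorem Oc106 : cc3.chk (appT tabs t56 0xff) 1 1 = true := by decide +kernel
theorem Oc107 : okcb 12 8 (bases cc) = true := by decide +kernel
theorem Oc108 : headAll (appT tabs t56 0xff) cc [] = true := by decide +kernel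
theorem Oc109 : tp0.head tpR = true := by decide +kernel
theorem Oc110 : allL (fun a => tp0.chk a 0 tp0.N) tp0.S = true := by decide +kernel
theorem Oc111 : tp1.head tpR = true := by decide +kernel
theorem Oc112 : allL (fun a => tp1.chk a 0 tp1.N) tp1.S = true := by decide +kernel
theorem Oc113 : tp2.head tpR = true := by decide +kernel
theorem Oc114 : allL (fun a => tp2.chk a 0 tp2.N) tp2.S = true := by decide +kernel
theorem Oc115 : tcLink tp [] [41,42,43,44] = true := by decide +kernel
theorem Oc116 : pc0.chk (appT tabs t56 0xff) 1 7 = true := by decide +kernel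
theorem Oc117 : pc1.chk (appT tabs t56 0xff) 1 1 = true := by decide +kernel
theorem Oc118 : pc2.chk (appT tabs t56 0xff) 1 3 = true := by decide +kernel
theorem Oc119 : okcb 12 8 (bases pc) = true := by decide +kernel
theorem Oc120 : headAll (appT tabs t56 0xff) pc [] = true := by decide +kernel
theorem Oc121 : allL (fun v => eqW (appT tabs t56 0xff) bs v []) tpR = true := by decide +kernel
theorem Oc122 : trChk (appT tabs t56 0xff) mc0 [mc1, mc2, mc3, mc4] bs (diagQ pQ) (diagQ pR) pF 0 12 = true := by decide +kernel
theorem Oc123 : classChk (appT tabs t56 0xff) bs 10 2 45 [14,8,17,19,24,21,28,32] pS pF pU = true := by decide +kernel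
theorem Oc124 : powChk (appT tabs t56 0xff) bs 8 11 aK nK = true := by decide +kernel
theorem Oc125 : en.chk (appT tabs t56 0xff) tst 0 495 0 379304017969 = true := by decide +kernel
theorem Oc126 : commAll (appT tabs t56 0xff) bs 10 cc = true := by decide +kernel
theorem Oc127 : relChk (appT tabs t56 0xff) bs 8 10 rT = true := by decide +kernel
theorem Oc128 : eqW (appT tabs t56 0xff) bs (substW img [33,34]) [] = true := by decide +kernel
theorem Oc129 : eqW (appT tabs t56 0xff) bs (substW img [34,33]) [] = true := by decide +kernel
theorem Oc130 : eqW (appT tabs t56 0xff) bs (substW img [35,36]) [] = true := by decide +kernel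
theorem Oc131 : eqW (appT tabs t56 0xff) bs (substW img [36,35]) [] = true := by decide +kernel
theorem Oc132 : eqW (appT tabs t56 0xff) bs (substW img [34,35,33,35]) [] = true := by decide +kernel
theorem Oc133 : eqW (appT tabs t56 0xff) bs (substW img [33,33,33,33]) [] = true := by decide +kernel
theorem Oc134 : eqW (appT tabs t56 0xff) bs (substW img [36,33,35,33]) [] = true := by decide +kernel
theorem Oc135 : eqW (appT tabs t56 0xff) bs (substW img [37,37]) [] = true := by decide +kernel
theorem Oc136 : eqW (appT tabs t56 0xff) bs (substW img [37,36,37,33,37,34,36]) [] = true := by decide +kernel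
theorem Oc137 : eqW (appT tabs t56 0xff) bs (substW img [38,38]) [] = true := by decide +kernel
theorem Oc138 : eqW (appT tabs t56 0xff) bs (substW img [38,37,38,37]) [] = true := by decide +kernel
theorem Oc139 : eqW (appT tabs t56 0xff) bs (substW img [38,35,38,35,38,35]) [] = true := by decide +kernel
theorem Oc140 : eqW (appT tabs t56 0xff) bs (substW img [38,34,38,33,38,35,37,36]) [] = true := by decide +kernel
theorem Oc141 : eqW (appT tabs t56 0xff) bs (substW img [39,39]) [] = true := by decide +kernel
theorem Oc142 : eqW (appT tabs t56 0xff) bs (substW img [39,38,39,38]) [] = true := by decide +kernel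
theorem Oc143 : eqW (appT tabs t56 0xff) bs (substW img [39,36,39,35,39,34,34]) [] = true := by decide +kernel
theorem Oc144 : eqW (appT tabs t56 0xff) bs (substW img [39,34,37,38,33,39,34,37,38,33]) [] = true := by decide +kernel
theorem Oc145 : eqW (appT tabs t56 0xff) bs (substW img [39,34,34,38,36,39,34,34,38,36]) [] = true := by decide +kernel
theorem Oc146 : eqW (appT tabs t56 0xff) bs (substW img [39,34,36,39,34,39,33,37,38,35]) [] = true := by decide +kernel
theorem Oc147 : eqW (appT tabs t56 0xff) bs (substW img [40,40]) [] = true := by decide +kernel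
theorem Oc148 : eqW (appT tabs t56 0xff) bs (substW img [40,35,40,35]) [] = true := by decide +kernel
theorem Oc149 : eqW (appT tabs t56 0xff) bs (substW img [40,37,40,37]) [] = true := by decide +kernel
theorem Oc150 : eqW (appT tabs t56 0xff) bs (substW img [40,38,40,38]) [] = true := by decide +kernel
theorem Oc151 : eqW (appT tabs t56 0xff) bs (substW img [40,33,40,34,36]) [] = true := by decide +kernel
theorem Oc152 : eqW (appT tabs t56 0xff) bs (substW img [40,39,36,40,39,40,35,39,36]) [] = true := by decide +kernel
theorem Oc153 : trChk (appT tabs t56 0xff) mc0 [mc1, mc2, mc3, mc4] bs (pairQ 8 10 53 55 nQ) (pairQ 8 10 53 55 [[0], [1]]) [] 0 12 = true := by decide +kernel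

end Cfsg.Agent.CG.M12
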