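import Cfsg.Agent.Lib.Grp.M12.OD1
import Cfsg.Agent.Lib.Grp.M12.Defs

set_option autoImplicit false
set_option maxRecDepth 100000

namespace Cfsg.Agent.CG.M12

noncomputable def cc0 : Lvl := ⟨0, [46,47], 4,
  fun i => look 0xff cc0c (Nat.mul 8 i), fun i => look 0xf cc0p (Nat.mul 4 i),
  fun i => look 255 cc0l (Nat.mul 8 i), fun i => look 255 cc0i (Nat.mul 8 i), fun x => look 0xff cc0q x, 2⟩
noncomputable def cc1 : Lvl := ⟨48, [48,49], 8,
  fun i => look 0xff cc1c (Nat.mul 8 i), fun i => look 0xf cc1p (Nat.mul 4 i),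
  fun i => look 255 cc1l (Nat.mul 8 i), fun i => look 255 cc1i (Nat.mul 8 i), fun x => look 0xff cc1q x, 4⟩
noncomputable def cc2 : Lvl := ⟨32, [50,51], 3,
  fun i => look 0xff cc2c (Nat.mul 8 i), fun i => look 0xf cc2p (Nat.mul 4 i),
  fun i => look 255 cc2l (Nat.mul 8 i), fun i => look 255 cc2i (Nat.mul 8 i), fun x => look 0xff cc2q x, 1⟩
noncomputable def cc3 : Lvl := ⟨80, [52], 2,
  fun i => look 0xff cc3c (Nat.mul 8 i), fun i => look 0xf cc3p (Nat.mul 4 i),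
  fun i => look 255 cc3l (Nat.mul 8 i), fun i => look 255 cc3i (Nat.mul 8 i), fun x => look 0xff cc3q x, 1⟩
noncomputable def cc : List Lvl := [cc0, cc1, cc2, cc3]
noncomputable def pc0 : Lvl := ⟨0, [41,42,44], 8,
  fun i => look 0xff pc0c (Nat.mul 8 i), fun i => look 0xf pc0p (Nat.mul 4 i),
  fun i => look 255 pc0l (Nat.mul 8 i), fun i => look 255 pc0i (Nat.mul 8 i), fun x => look 0xff pc0q x, 4⟩
noncomputable def pc1 : Lvl := ⟨48, [43], 2,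
  fun i => look 0xff pc1c (Nat.mul 8 i), fun i => look 0xf pc1p (Nat.mul 4 i),
  fun i => look 255 pc1l (Nat.mul 8 i), fun i => look 255 pc1i (Nat.mul 8 i), fun x => look 0xff pc1q x, 1⟩
noncomputable def pc2 : Lvl := ⟨80, [41,42], 4,
  fun i => look 0xff pc2c (Nat.mul 8 i), fun i => look 0xf pc2p (Nat.mul 4 i),
  fun i => look 255 pc2l (Nat.mul 8 i), fun i => look 255 pc2i (Nat.mul 8 i), fun x => look 0xff pc2q x, 2⟩
noncomputable def pc : List Lvl := [pc0, pc1, pc2]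
noncomputable def tpR : List (List ℕ) := [[41,42],
  [42,41],
  [41,41,41,41],
  [43,43],
  [43,41,43,41],
  [44,44],
  [44,41,43,44,41,43],
  [44,42,44,41,44,41,44,42]]
noncomputable def tp0T : List ℕ := [0,0,0,0,0,0,0,0,0,0,0,0,0,0,0,0,0,0,0,0,0,0,0,0,0,0,0,0,0,0,0,0,0,0,0,0,0,0,0,0,0,tp0t41,tp0t42,tp0t43,tp0t44]
noncomputable def tp0r : Tr Rule := (.node (.node (.node (.node (.leaf ⟨44,[44],5,1⟩) (.leaf ⟨41,[44,41,44,42,44,42,44],7,3⟩)) (.leaf ⟨43,[44,41,43,44,41],6,5⟩)) (.node (.node (.leaf ⟨41,[42],0,0⟩) (.leaf ⟨42,[44,41,44,41,44,42,44],7,1⟩)) (.leaf ⟨43,[41,43,41],4,2⟩))) (.node (.node (.node (.leaf ⟨42,[41],0,1⟩) (.leaf ⟨42,[44,42,44,41,44,41,44],7,7⟩)) (.leaf ⟨43,[43],3,1⟩)) (.node (.node (.leaf ⟨41,[41,41,41],2,2⟩) (.leaf ⟨43,[44,41,43,44,41],6,2⟩)) (.leaf ⟨41,[44,42,44,42,44,41,44],7,5⟩))))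
noncomputable def tp0 : TCL := ⟨[41,42,43,44], [41,42,43], 8, 16, 0xff, 8, 0xf,
  fun a x => look 0xffff (nth tp0T 0 a) x, fun x => look 0xffff tp0d x, tp0r⟩
noncomputable def tp1T : List ℕ := [0,0,0,0,0,0,0,0,0,0,0,0,0,0,0,0,0,0,0,0,0,0,0,0,0,0,0,0,0,0,0,0,0,0,0,0,0,0,0,0,0,tp1t41,tp1t42,tp1t43]
noncomputable def tp1r : Tr Rule := (.node (.node (.leaf ⟨43,[43],3,1⟩) (.leaf ⟨42,[41],0,1⟩)) (.leaf ⟨41,[43,41,43],4,3⟩))
noncomputable def tp1 : TCL := ⟨[41,42,43], [41,42], 2, 16, 0x3f, 6, 0x7,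
  fun a x => look 0xffff (nth tp1T 0 a) x, fun x => look 0xffff tp1d x, tp1r⟩
noncomputable def tp2T : List ℕ := [0,0,0,0,0,0,0,0,0,0,0,0,0,0,0,0,0,0,0,0,0,0,0,0,0,0,0,0,0,0,0,0,0,0,0,0,0,0,0,0,0,tp2t41,tp2t42]
noncomputable def tp2r : Tr Rule := (.node (.node (.leaf ⟨42,[41],0,1⟩) (.leaf ⟨41,[41,41,41],2,2⟩)) (.leaf ⟨41,[42],0,0⟩))
noncomputable def tp2 : TCL := ⟨[41,42], [], 4, 16, 0x7f, 7, 0x7,
  fun a x => look 0xffff (nth tp2T 0 a) x, fun x => look 0xffff tp2d x, tp2r⟩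
noncomputable def tp : List TCL := [tp0, tp1, tp2]
noncomputable def pS : List ℕ := [41,42,43,44]
noncomputable def pQ : List (List ℕ) := [[],
  [44,41,44],
  [44,42,44],
  [41,44],
  [44,41,41,44]]
noncomputable def pR : List (List ℕ) := [[41],
  [42],
  [43],
  [44]]
noncomputable def pF : List (List ℕ) := [[],
  [16,20,18,23,28,29]]
noncomputable def pU : List (List ℕ) := [[15,19,19,24,21,32]]
noncomputable def aK : List ℕ := [8,53]
noncomputable def nK : List (List ℕ × ℕ) := [([],0),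
  ([],8),
  ([],53),
  ([20,17,22,31],8),
  ([20,18,24,21,28,29,29],8),
  ([18,23,21,25,28,25,32],8),
  ([20,17,22,31],53),
  ([19,22,27,32,29],53),
  ([20,18,24,21,28,29,29],53),
  ([19,22,27,32,29],8),
  ([18,23,21,25,28,25,32],53)]
noncomputable def rT : List (List ℕ × ℕ) := [([0,1,0,1,0,1],24),
  ([0,1,0,1,0,1],48),
  ([0,1,0,1,0,1],16),
  ([0,0,0,1,0,0,0,1,0,0,0,1,0,0,0,1,0,0,0,1,0,0,0,1],24),
  ([0,0,0,1,0,0,0,1,0,0,0,1,0,0,0,1,0,0,0,1,0,0,0,1],32)]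
noncomputable def uu : List (List ℕ) := [[],
  [8],
  [9],
  [10,11,17,19,23,22,27,30],
  [11,22,27,29,29],
  [12,15,18,20,22,28,31],
  [13,20,24,21,28,31],
  [14,8,20,17,22,23,27,32,29],
  [14,9,17,23,22,25,30],
  [15,20,24,21,28,31,29],
  [16,19,19,27,27,31,29]]
noncomputable def wT : Tr ℕ := (.leaf w0)
noncomputable def en : Enum := ⟨inv, 8, 255, 3, fun i => force (Nat.shiftRight i 10) fun c => look 0xffffff (wT.get c) (Nat.mul 24 (Nat.land i 1023)), 10, [0,48,32,80,16], 256⟩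
noncomputable def tst : (ℕ → ℕ) → Bool := outTest (appT tabs t56 0xff) bs aK rT [(8, 10), (53, 55)] uu
noncomputable def imgL : List (List ℕ) := [[],
  [],
  [],
  [],
  [],
  [],
  [],
  [],
  [],
  [],
  [],
  [],
  [],
  [],
  [],
  [],
  [],
  [],
  [],
  [],
  [],
  [],
  [],
  [],
  [],
  [],
  [],
  [],
  [],
  [],
  [],
  [],
  [],
  [15,20,17,24,21,25,28,25,30],
  [14,9,17,23,21,26,31,29],
  [8,19,19,21,21,28,25,31,29],
  [12,15,19,17,21,21,27,27,29],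
  [14,8,20,18,23,26,32,29],
  [14,8,18,24,21,27],
  [14,9,19,19,23],
  [20,18,24,21,25,28,25,31,29]]
noncomputable def img (a : ℕ) : List ℕ := nth imgL [] a
noncomputable def nQ : List (List ℕ) := [[],
  [0,0,0],
  [0,0,0,0],
  [0,1,0],
  [0,0,1,0]]

end Cfsg.Agent.CG.M12
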